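import Mathlib
import Cfsg.Agent.H386.Rg.D2

/-!
# Anisotropic planes in quadratic spaces over finite fields (helper72; S3691, F-D+2)

* `exists_aniso` : a subspace `U ≤ N`, `N` nondegenerate, `dim N + 3 ≤ 2 dim U`, contains an anisotropic plane
  (in particular a nondegenerate `U` of dimension `≥ 3`)
* `hyp_of_two` : a nondegenerate plane which is not anisotropic is hyperbolic
* `nd_fix` : the fixed space of an isometry of order prime to `p` is nondegenerate
-/

set_option autoImplicit false

namespace Cfsg.Agent.H72.D2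

open QuadraticMap Module Cfsg.Agent.H386.Rg

universe u v

variable {F : Type u} {V : Type v} [Field F] [AddCommGroup V] [Module F V] {Q : QuadraticForm F V}

/-- the polar form is nondegenerate on `U` -/
def Nd (Q : QuadraticForm F V) (U : Submodule F V) : Prop :=
  ∀ v ∈ U, (∀ w ∈ U, polar Q v w = 0) → v = 0

theorem exists_beta [Finite F] {d : F} (hd : d ≠ 0) : ∃ β : F, ∀ y : F, β + y + d * y ^ 2 ≠ 0 := by
  by_contra hcon
  push Not at hcon
  have hsurj : Function.Surjective (fun y : F => -(y + d * y ^ 2)) := fun β => by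
    obtain ⟨y, hy⟩ := hcon β
    exact ⟨y, by linear_combination -hy⟩
  have hinj := Finite.injective_iff_surjective.2 hsurj
  have h1 : (fun y : F => -(y + d * y ^ 2)) 0 = (fun y : F => -(y + d * y ^ 2)) (-d⁻¹) := by
    simp only
    field_simp
    ring
  have h2 := hinj h1
  exact inv_ne_zero hd (neg_eq_zero.1 h2.symm)

theorem mapadd (x y : V) : Q (x + y) = Q x + Q y + polar Q x y := QuadraticMap.map_add Q x y

theorem map_comb (u w : V) (a b : F) : Q (a • u + b • w) = a ^ 2 * Q u + b ^ 2 * Q w + a * b * polar Q u w := by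
  rw [mapadd, QuadraticMap.map_smul, QuadraticMap.map_smul, polar_smul_left, polar_smul_right]
  simp only [smul_eq_mul]
  ring

/-- a hyperbolic plane and a nonsingular vector perpendicular to it -/
theorem aniso_of_hyp [Finite F] {e g z : V} (he : Q e = 0) (hg : Q g = 0) (heg : polar Q e g = 1)
    (hez : polar Q e z = 0) (hgz : polar Q g z = 0) (hz : Q z ≠ 0) :
    ∃ β : F, Aniso Q (e + β • g) (g + z) := by
  obtain ⟨β, hβ⟩ := exists_beta hz
  refine ⟨β, fun a b h => ?_⟩
  have h1 : Q (a • (e + β • g) + b • (g + z)) = a ^ 2 * β + a * b + b ^ 2 * Q z := by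
    rw [map_comb]
    have h2 : Q (e + β • g) = β := by
      rw [mapadd, QuadraticMap.map_smul, he, hg, polar_smul_right, heg]
      simp
    have h3 : Q (g + z) = Q z := by
      rw [mapadd, hg, hgz]
      simp
    have h4 : polar Q (e + β • g) (g + z) = 1 := by
      rw [polar_add_left, polar_add_right, polar_add_right, polar_smul_left, polar_smul_left, heg, hez, hgz,
        polar_self, hg]
      simp
    rw [h2, h3, h4]
    ring
  rw [h1] at h
  have ha : a = 0 := by
    by_contra ha
    apply hβ (b / a)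
    field_simp
    linear_combination h
  subst ha
  refine ⟨rfl, ?_⟩
  have h5 : b ^ 2 * Q z = 0 := by linear_combination h
  rcases mul_eq_zero.1 h5 with h6 | h6
  · exact pow_eq_zero_iff (two_ne_zero) |>.1 h6
  · exact absurd h6 hz

/-- a singular vector of a nondegenerate space lies in a hyperbolic plane -/
theorem exists_partner {U : Submodule F V} (hU : Nd Q U) {e : V} (he : e ∈ U) (h0 : e ≠ 0) (hQ : Q e = 0) :
    ∃ g ∈ U, Q g = 0 ∧ polar Q e g = 1 := by
  have h1 : ∃ w ∈ U, polar Q e w ≠ 0 := by
    by_contra hcon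
    push Not at hcon
    exact h0 (hU e he hcon)
  obtain ⟨w, hw, hew⟩ := h1
  obtain ⟨g₀, hg0⟩ : ∃ g₀, g₀ = (polar Q e w)⁻¹ • w := ⟨_, rfl⟩
  have h2 : polar Q e g₀ = 1 := by
    rw [hg0, polar_smul_right, smul_eq_mul, inv_mul_cancel₀ hew]
  have hg₀ : g₀ ∈ U := by
    rw [hg0]
    exact U.smul_mem _ hw
  refine ⟨g₀ + (-Q g₀) • e, U.add_mem hg₀ (U.smul_mem _ he), ?_, ?_⟩
  · rw [mapadd, QuadraticMap.map_smul, hQ, polar_smul_right, polar_comm, h2]
    simp
  · rw [polar_add_right, polar_smul_right, polar_self, hQ, h2]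
    simp

/-- **a nondegenerate space of dimension at least 3 contains an anisotropic plane** -/
theorem exists_aniso_nd [Finite F] [FiniteDimensional F V] {U : Submodule F V} (hU : Nd Q U) (hd : 3 ≤ finrank F U) :
    ∃ u ∈ U, ∃ w ∈ U, Aniso Q u w := by
  by_cases hA : ∀ u ∈ U, Q u = 0 → u = 0
  · have h1 : 1 < finrank F U := by omega
    obtain ⟨x, hx⟩ : ∃ x : U, x ≠ 0 := by
      have : Nontrivial U := Module.nontrivial_of_finrank_pos (R := F) (by omega)
      exact exists_ne 0
    obtain ⟨y, hy⟩ := exists_linearIndependent_pair_of_one_lt_finrank h1 hx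
    rw [LinearIndependent.pair_iff] at hy
    refine ⟨x, x.2, y, y.2, fun a b h => hy a b ?_⟩
    apply Subtype.ext
    exact hA _ (U.add_mem (U.smul_mem _ x.2) (U.smul_mem _ y.2)) h
  · push Not at hA
    obtain ⟨e, he, hQe, he0⟩ := hA
    obtain ⟨g, hg, hQg, heg⟩ := exists_partner hU he he0 hQe
    have hge : polar Q g e = 1 := by rw [polar_comm]; exact heg
    -- a nonzero vector of `U` perpendicular to `e` and `g`
    let φ : U →ₗ[F] F × F := ((Q.polarBilin e).comp U.subtype).prod ((Q.polarBilin g).comp U.subtype)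
    have hker : LinearMap.ker φ ≠ ⊥ := by
      apply LinearMap.ker_ne_bot_of_finrank_lt
      rw [Module.finrank_prod, Module.finrank_self]
      omega
    obtain ⟨⟨z, hzU⟩, hzk, hz0⟩ := (Submodule.ne_bot_iff _).1 hker
    have hz0' : z ≠ 0 := fun h => hz0 (Subtype.ext h)
    have hz1 : polar Q e z = 0 := congrArg Prod.fst hzk
    have hz2 : polar Q g z = 0 := congrArg Prod.snd hzk
    have key : ∀ z ∈ U, polar Q e z = 0 → polar Q g z = 0 → Q z ≠ 0 → ∃ u ∈ U, ∃ w ∈ U, Aniso Q u w := by
      intro z hz h1 h2 h3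
      obtain ⟨β, hβ⟩ := aniso_of_hyp hQe hQg heg h1 h2 h3
      exact ⟨_, U.add_mem he (U.smul_mem _ hg), _, U.add_mem hg hz, hβ⟩
    by_cases hQz : Q z = 0
    · have h1 : ∃ w ∈ U, polar Q z w ≠ 0 := by
        by_contra hcon
        push Not at hcon
        exact hz0' (hU z hzU hcon)
      obtain ⟨w, hw, hzw⟩ := h1
      set x := w + (-(polar Q g w)) • e + (-(polar Q e w)) • g with hx
      have hxU : x ∈ U := U.add_mem (U.add_mem hw (U.smul_mem _ he)) (U.smul_mem _ hg)
      have hex : polar Q e x = 0 := by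
        rw [hx, polar_add_right, polar_add_right, polar_smul_right, polar_smul_right, polar_self, hQe, heg]
        simp
      have hgx : polar Q g x = 0 := by
        rw [hx, polar_add_right, polar_add_right, polar_smul_right, polar_smul_right, polar_self, hQg, hge]
        simp
      have hzx : polar Q z x = polar Q z w := by
        rw [hx, polar_add_right, polar_add_right, polar_smul_right, polar_smul_right, polar_comm Q z e,
          polar_comm Q z g, hz1, hz2]
        simp
      by_cases hQx : Q x = 0
      · refine key (z + x) (U.add_mem hzU hxU) ?_ ?_ ?_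
        · rw [polar_add_right, hz1, hex, add_zero]
        · rw [polar_add_right, hz2, hgx, add_zero]
        · rw [mapadd, hQz, hQx, zero_add, zero_add, hzx]
          exact hzw
      · exact key x hxU hex hgx hQx
    · exact key z hzU hz1 hz2 hQz

/-- the radical of the polar form on `U` -/
def rad (Q : QuadraticForm F V) (U : Submodule F V) : Submodule F V where
  carrier := {v | v ∈ U ∧ ∀ w ∈ U, polar Q v w = 0}
  zero_mem' := ⟨U.zero_mem, fun w _ => polar_zero_left Q w⟩
  add_mem' := fun {a b} ha hb => ⟨U.add_mem ha.1 hb.1, fun w hw => by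
    rw [polar_add_left, ha.2 w hw, hb.2 w hw, add_zero]⟩
  smul_mem' := fun c a ha => ⟨U.smul_mem c ha.1, fun w hw => by
    rw [polar_smul_left, ha.2 w hw, smul_zero]⟩

theorem mem_rad {U : Submodule F V} {v : V} : v ∈ rad Q U ↔ v ∈ U ∧ ∀ w ∈ U, polar Q v w = 0 := Iff.rfl

theorem rad_le (U : Submodule F V) : rad Q U ≤ U := fun _ h => h.1

theorem finrank_rad [FiniteDimensional F V] {U N : Submodule F V} (hUN : U ≤ N) (hN : Nd Q N) :
    finrank F (rad Q U) + finrank F U ≤ finrank F N := by
  classical
  -- `rad → Dual N`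
  let T : (rad Q U) →ₗ[F] Dual F N := (Submodule.dualRestrict N).comp (Q.polarBilin.comp (rad Q U).subtype)
  have hT : ∀ (v : rad Q U) (n : N), T v n = polar Q (v : V) (n : V) := fun v n => rfl
  have hinj : Function.Injective T := by
    rw [← LinearMap.ker_eq_bot, LinearMap.ker_eq_bot']
    intro v hv
    apply Subtype.ext
    refine hN v (hUN v.2.1) fun w hw => ?_
    have := LinearMap.congr_fun hv ⟨w, hw⟩
    exact this
  set U' : Submodule F N := U.comap N.subtype with hU'
  have hU'd : finrank F U' = finrank F U := by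
    have h1 : U'.map N.subtype = U := by
      rw [hU', Submodule.map_comap_subtype]
      exact inf_eq_right.2 hUN
    rw [← h1]
    exact (LinearEquiv.finrank_eq (Submodule.equivMapOfInjective N.subtype (Submodule.injective_subtype N) U')).symm ▸ rfl
  have hle : LinearMap.range T ≤ U'.dualAnnihilator := by
    rintro _ ⟨v, rfl⟩
    rw [Submodule.mem_dualAnnihilator]
    intro w hw
    rw [hT]
    exact v.2.2 w hw
  have h1 := Submodule.finrank_mono hle
  have h2 := Subspace.finrank_add_finrank_dualAnnihilator_eq U'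
  rw [LinearMap.finrank_range_of_inj hinj] at h1
  rw [hU'd] at h2
  omega

/-- **a subspace with small radical contains an anisotropic plane** -/
theorem exists_aniso [Finite F] [FiniteDimensional F V] {U N : Submodule F V} (hUN : U ≤ N) (hN : Nd Q N)
    (hd : finrank F N + 3 ≤ 2 * finrank F U) : ∃ u ∈ U, ∃ w ∈ U, Aniso Q u w := by
  have h1 := finrank_rad hUN hN
  obtain ⟨C, hC⟩ := Submodule.exists_isCompl ((rad Q U).comap U.subtype)
  have hR : finrank F ((rad Q U).comap U.subtype) = finrank F (rad Q U) := by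
    have h2 : ((rad Q U).comap U.subtype).map U.subtype = rad Q U := by
      rw [Submodule.map_comap_subtype]
      exact inf_eq_right.2 (rad_le U)
    conv_rhs => rw [← h2]
    exact LinearEquiv.finrank_eq (Submodule.equivMapOfInjective U.subtype (Submodule.injective_subtype U) _)
  have hCd : finrank F (C.map U.subtype) = finrank F C :=
    (LinearEquiv.finrank_eq (Submodule.equivMapOfInjective U.subtype (Submodule.injective_subtype U) C)).symm
  have h3 := Submodule.finrank_add_eq_of_isCompl hC
  have hle : C.map U.subtype ≤ U := Submodule.map_subtype_le U C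
  have hnd : Nd Q (C.map U.subtype) := by
    intro v hv hvw
    obtain ⟨c, hc, rfl⟩ := hv
    have h4 : (c : V) ∈ rad Q U := by
      refine ⟨c.2, fun w hw => ?_⟩
      obtain ⟨r, c', hr, hc', hrc⟩ : ∃ r c' : U, r ∈ (rad Q U).comap U.subtype ∧ c' ∈ C ∧ r + c' = ⟨w, hw⟩ := by
        have h5 : (⟨w, hw⟩ : U) ∈ (rad Q U).comap U.subtype ⊔ C := by
          rw [hC.sup_eq_top]
          trivial
        obtain ⟨r, hr, c', hc', h6⟩ := Submodule.mem_sup.1 h5
        exact ⟨r, c', hr, hc', h6⟩
      have h6 : w = (r : V) + (c' : V) := by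
        have := congrArg Subtype.val hrc
        exact this.symm
      rw [h6, polar_add_right]
      have h7 : polar Q (c : V) (c' : V) = 0 := hvw c' ⟨c', hc', rfl⟩
      have h8 : polar Q (c : V) (r : V) = 0 := by
        rw [polar_comm]
        exact (show (r : V) ∈ rad Q U from hr).2 c c.2
      rw [h7, h8, add_zero]
    have h5 : c ∈ (rad Q U).comap U.subtype ⊓ C := ⟨h4, hc⟩
    rw [hC.inf_eq_bot] at h5
    rw [(Submodule.mem_bot F).1 h5]
    rfl
  obtain ⟨u, hu, w, hw, h⟩ := exists_aniso_nd hnd (by omega)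
  exact ⟨u, hle hu, w, hle hw, h⟩

/-- **a nondegenerate plane which is not anisotropic is hyperbolic** -/
theorem hyp_of_two [FiniteDimensional F V] {C : Submodule F V} (hC : Nd Q C) (hd : finrank F C = 2)
    (hna : ∀ u ∈ C, ∀ w ∈ C, ¬ Aniso Q u w) :
    ∃ e g : V, Q e = 0 ∧ Q g = 0 ∧ polar Q e g = 1 ∧ C = Submodule.span F {e, g} := by
  have h1 : 1 < finrank F C := by omega
  obtain ⟨x, hx⟩ : ∃ x : C, x ≠ 0 := by
    have : Nontrivial C := Module.nontrivial_of_finrank_pos (R := F) (by omega)
    exact exists_ne 0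
  obtain ⟨y, hy⟩ := exists_linearIndependent_pair_of_one_lt_finrank h1 hx
  rw [LinearIndependent.pair_iff] at hy
  have h2 := hna x x.2 y y.2
  unfold Aniso at h2
  push Not at h2
  obtain ⟨a, b, hab, hab2⟩ := h2
  set e : V := a • (x : V) + b • (y : V) with he
  have heC : e ∈ C := C.add_mem (C.smul_mem _ x.2) (C.smul_mem _ y.2)
  have he0 : e ≠ 0 := by
    intro h0
    have h3 := hy a b (Subtype.ext h0)
    exact hab2 h3.1 h3.2
  obtain ⟨g, hg, hQg, heg⟩ := exists_partner hC heC he0 hab
  refine ⟨e, g, hab, hQg, heg, ?_⟩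
  have hli : LinearIndependent F ![e, g] := by
    rw [LinearIndependent.pair_iff]
    intro s t hst
    have h3 : polar Q e (s • e + t • g) = t := by
      rw [polar_add_right, polar_smul_right, polar_smul_right, polar_self, hab, heg]
      simp
    have h4 : polar Q g (s • e + t • g) = s := by
      rw [polar_add_right, polar_smul_right, polar_smul_right, polar_self, hQg, polar_comm Q g e, heg]
      simp
    rw [hst, polar_zero_right] at h3 h4
    exact ⟨h4.symm, h3.symm⟩
  have hle : Submodule.span F {e, g} ≤ C := by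
    rw [Submodule.span_le]
    rintro z (rfl | rfl)
    · exact heC
    · exact hg
  refine (Submodule.eq_of_le_of_finrank_le hle ?_).symm
  have h5 := finrank_span_eq_card hli
  have h6 : Set.range ![e, g] = {e, g} := by
    rw [Matrix.range_cons, Matrix.range_cons, Matrix.range_empty, Set.union_empty]
    rfl
  rw [h6] at h5
  rw [h5, hd]
  simp

/-- the fixed space of an isometry of order prime to the characteristic is nondegenerate -/
theorem nd_fix [FiniteDimensional F V] (hnd : ∀ v : V, (∀ w, polar Q v w = 0) → v = 0) {k : V ≃ₗ[F] V}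
    (hk : ∀ v, Q (k v) = Q v) {n : ℕ} (hn : k ^ n = 1) (hn0 : (n : F) ≠ 0) :
    Nd Q (LinearMap.ker ((k : V →ₗ[F] V) - LinearMap.id)) := by
  have hpol : ∀ v w, polar Q (k v) (k w) = polar Q v w := fun v w => by
    unfold polar
    rw [← map_add, hk, hk, hk]
  intro v hv hvC
  have hkv : k v = v := sub_eq_zero.1 hv
  apply hnd
  intro w
  have h1 : ∀ i : ℕ, polar Q v ((k ^ i) w) = polar Q v w := by
    intro i
    induction i with
    | zero => rfl
    | succ i ih =>
      rw [pow_succ']
      have h2 := hpol v ((k ^ i) w)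
      rw [hkv] at h2
      exact h2.trans ih
  have h2 : ∑ i ∈ Finset.range n, (k ^ i) w ∈ LinearMap.ker ((k : V →ₗ[F] V) - LinearMap.id) := by
    rw [LinearMap.mem_ker, LinearMap.sub_apply, LinearMap.id_apply, sub_eq_zero]
    change k (∑ i ∈ Finset.range n, (k ^ i) w) = _
    rw [map_sum]
    have h3 : ∀ i, k ((k ^ i) w) = (k ^ (i + 1)) w := fun i => by
      rw [pow_succ']
      rfl
    simp only [h3]
    have h4 := Finset.sum_range_succ (fun i => (k ^ i) w) n
    have h5 := Finset.sum_range_succ' (fun i => (k ^ i) w) n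
    rw [hn] at h4
    rw [pow_zero] at h5
    exact add_right_cancel (h5.symm.trans h4)
  have h3 := hvC _ h2
  have h4 : polar Q v (∑ i ∈ Finset.range n, (k ^ i) w) = ∑ i ∈ Finset.range n, polar Q v ((k ^ i) w) :=
    map_sum (Q.polarBilin v) _ _
  rw [h4, Finset.sum_congr rfl fun i _ => h1 i, Finset.sum_const, Finset.card_range, nsmul_eq_mul] at h3
  exact (mul_eq_zero.1 h3).resolve_left hn0

end Cfsg.Agent.H72.D2
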