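import Mathlib
import Cfsg.Agent.H72.D2.Plane

/-!
# Vector stabilisers in the frame `D2` (helper72; S3691, F-D+2)

The statements V1, V2, V5, V6, V7 of tools/plans/S3691_d2_stubs.lean.txt:
`D2.fixplane`, `D2.fixplane'`, `D2.same`, `D2.odd_stb`, `D2.alt_odd`; and
`D2.rank_ge` : `rank (k - 1) ≥ m - 1` for `1 ≠ k ∈ K`;
`D2.fix_le_two` : the fixed space of `1 ≠ k ∈ K` of order prime to `p` has dimension `≤ 2`.
-/

set_option autoImplicit false

namespace Cfsg.Agent.H386.Rg

open QuadraticMap Module Cfsg.Agent.H72.D2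

universe u v

variable {F : Type u} {V : Type v} [Field F] [Finite F] [AddCommGroup V] [Module F V] [FiniteDimensional F V]
  {Q : QuadraticForm F V} {p f m : ℕ} {K : Subgroup (V ≃ₗ[F] V)}

/-- the fixed space -/
abbrev fixS (k : V ≃ₗ[F] V) : Submodule F V := LinearMap.ker ((k : V →ₗ[F] V) - LinearMap.id)

omit [Finite F] [FiniteDimensional F V] in
theorem mem_fixS {k : V ≃ₗ[F] V} {v : V} : v ∈ fixS k ↔ k v = v := by
  rw [LinearMap.mem_ker, LinearMap.sub_apply, LinearMap.id_apply, sub_eq_zero]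
  rfl

theorem D2.charP (h : D2 Q p f m K) : CharP F p := by
  have := Fintype.ofFinite F
  have := Fact.mk h.hp
  exact charP_of_card_eq_prime_pow (f := f) (by rw [← Nat.card_eq_fintype_card, h.hF])

theorem D2.cast_ne (h : D2 Q p f m K) {s : ℕ} (hs : s.Prime) (hsp : s ≠ p) : (s : F) ≠ 0 := by
  have := h.charP
  intro h0
  rw [CharP.cast_eq_zero_iff F p] at h0
  exact hsp ((Nat.prime_dvd_prime_iff_eq h.hp hs).1 h0).symm

theorem D2.fix_add (h : D2 Q p f m K) (k : V ≃ₗ[F] V) :
    finrank F (LinearMap.range ((k : V →ₗ[F] V) - LinearMap.id)) + finrank F (fixS k) = 2 * m := by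
  rw [← h.dim]
  exact LinearMap.finrank_range_add_finrank_ker _

theorem D2.fix_even (h : D2 Q p f m K) {k : V ≃ₗ[F] V} (hk : k ∈ K) : Even (finrank F (fixS k)) := by
  have h1 := h.fix_add k
  have h2 := h.even k hk
  have h3 : Even (finrank F (LinearMap.range ((k : V →ₗ[F] V) - LinearMap.id)) + finrank F (fixS k)) := by
    rw [h1]
    exact even_two_mul m
  exact (Nat.even_add.1 h3).1 h2

/-- `rank (k - 1) ≥ m - 1` for `1 ≠ k ∈ K` -/
theorem D2.fix_le (h : D2 Q p f m K) {k : V ≃ₗ[F] V} (hk : k ∈ K) (hk1 : k ≠ 1) : finrank F (fixS k) ≤ m + 1 := by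
  by_contra hcon
  obtain ⟨u, hu, w, hw, ha⟩ := exists_aniso (Q := Q) (U := fixS k) (N := ⊤) le_top
    (fun v _ hv => h.nd v fun w => hv w trivial) (by
      rw [finrank_top, h.dim]
      omega)
  exact h.fix k hk hk1 u w ha (mem_fixS.1 hu) (mem_fixS.1 hw)

theorem D2.rank_ge (h : D2 Q p f m K) {k : V ≃ₗ[F] V} (hk : k ∈ K) (hk1 : k ≠ 1) :
    m - 1 ≤ finrank F (LinearMap.range ((k : V →ₗ[F] V) - LinearMap.id)) := by
  have h1 := h.fix_le hk hk1
  have h2 := h.fix_add k
  omega

theorem D2.nd_fixS (h : D2 Q p f m K) {k : V ≃ₗ[F] V} (hk : k ∈ K) (ho : (orderOf k).Prime) (hop : orderOf k ≠ p) :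
    Nd Q (fixS k) :=
  nd_fix h.nd (h.iso k hk) (pow_orderOf_eq_one k) (h.cast_ne ho hop)

/-- the fixed space of an element of prime order `≠ p` has dimension at most 2 -/
theorem D2.fix_le_two (h : D2 Q p f m K) {k : V ≃ₗ[F] V} (hk : k ∈ K) (ho : (orderOf k).Prime) (hop : orderOf k ≠ p) :
    finrank F (fixS k) ≤ 2 := by
  by_contra hcon
  obtain ⟨u, hu, w, hw, ha⟩ := exists_aniso (Q := Q) (le_refl (fixS k)) (h.nd_fixS hk ho hop) (by omega)
  exact h.fix k hk (fun h1 => by rw [h1, orderOf_one] at ho; exact Nat.not_prime_one ho) u w ha (mem_fixS.1 hu)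
    (mem_fixS.1 hw)

theorem D2.hyp (h : D2 Q p f m K) {k : V ≃ₗ[F] V} (hk : k ∈ K) (ho : (orderOf k).Prime) (hop : orderOf k ≠ p)
    (hd : finrank F (fixS k) = 2) :
    ∃ e g : V, Q e = 0 ∧ Q g = 0 ∧ polar Q e g = 1 ∧ ∀ v : V, k v = v ↔ v ∈ Submodule.span F {e, g} := by
  obtain ⟨e, g, he, hg, heg, hs⟩ := hyp_of_two (h.nd_fixS hk ho hop) hd fun u hu w hw ha =>
    h.fix k hk (fun h1 => by rw [h1, orderOf_one] at ho; exact Nat.not_prime_one ho) u w ha (mem_fixS.1 hu)
      (mem_fixS.1 hw)
  refine ⟨e, g, he, hg, heg, fun v => ?_⟩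
  rw [← hs, mem_fixS]

/-- V1: the fixed space of an element of order `r_(m-1)` is a hyperbolic plane -/
theorem D2.fixplane (h : D2 Q p f m K) {r : ℕ} (hr : r.Prime) (hord : orderOf (p : ZMod r) = f * (m - 1)) {y : V ≃ₗ[F] V}
    (hy : y ∈ K) (hyr : orderOf y = r) :
    ∃ e g : V, Q e = 0 ∧ Q g = 0 ∧ polar Q e g = 1 ∧ ∀ v : V, y v = v ↔ v ∈ Submodule.span F {e, g} := by
  have := Fact.mk hr
  have hm := h.hm
  have hf := h.hf
  have hpos : 0 < f * (m - 1) := Nat.mul_pos (by omega) (by omega)
  have hp0 : (p : ZMod r) ≠ 0 := by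
    intro h0
    rw [h0, orderOf_zero] at hord
    omega
  have hrp : r ≠ p := by
    rintro rfl
    exact hp0 (ZMod.natCast_self r)
  have h2 := h.fix_le_two hy (by rw [hyr]; exact hr) (by rw [hyr]; exact hrp)
  refine h.hyp hy (by rw [hyr]; exact hr) (by rw [hyr]; exact hrp) ?_
  -- counting
  have : Finite V := Module.finite_of_finite F
  have hG : IsPGroup r (Subgroup.zpowers y) := IsPGroup.of_card (n := 1) (by rw [Nat.card_zpowers, hyr, pow_one])
  have h3 := hG.card_modEq_card_fixedPoints V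
  have h4 : Nat.card (MulAction.fixedPoints (Subgroup.zpowers y) V) = Nat.card (fixS y) := by
    refine Nat.card_congr (Equiv.subtypeEquivRight fun v => ?_)
    rw [MulAction.mem_fixedPoints]
    rw [mem_fixS]
    constructor
    · intro h5
      exact h5 ⟨y, Subgroup.mem_zpowers y⟩
    · rintro h5 ⟨_, n, rfl⟩
      have h6 : y ∈ MulAction.stabilizer (V ≃ₗ[F] V) v := h5
      exact (MulAction.stabilizer (V ≃ₗ[F] V) v).zpow_mem h6 n
  rw [h4, Module.natCard_eq_pow_finrank (K := F) (V := V), Module.natCard_eq_pow_finrank (K := F) (V := fixS y), h.hF, h.dim] at h3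
  set d := finrank F (fixS y) with hd
  rw [← ZMod.natCast_eq_natCast_iff, ← pow_mul, ← pow_mul, Nat.cast_pow, Nat.cast_pow] at h3
  have h5 : (p : ZMod r) ^ (f * (2 * m - d)) = 1 := by
    have h6 : f * (2 * m) = f * (2 * m - d) + f * d := by
      rw [← Nat.mul_add]
      congr 1
      omega
    rw [h6, pow_add] at h3
    exact mul_right_cancel₀ (pow_ne_zero _ hp0) (h3.trans (one_mul _).symm)
  have h6 := orderOf_dvd_of_pow_eq_one h5
  rw [hord] at h6
  have h7 : (m - 1) ∣ 2 * m - d := Nat.dvd_of_mul_dvd_mul_left (by omega) h6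
  have h8 : (m - 1) ∣ 2 - d := by
    have h9 : 2 * m - d = (m - 1) * 2 + (2 - d) := by omega
    rw [h9] at h7
    exact (Nat.dvd_add_right (Dvd.intro _ rfl)).1 h7
  by_contra hne
  have h9 := Nat.le_of_dvd (by omega) h8
  omega

/-- V2: elements of odd prime order `≠ p` fixing a nonsingular vector fix exactly a hyperbolic plane -/
theorem D2.fixplane' (h : D2 Q p f m K) {v : V} (hv : Q v ≠ 0) {k : V ≃ₗ[F] V} (hk : k ∈ stb K v) (ho : (orderOf k).Prime)
    (hop : orderOf k ≠ p) (_ho2 : orderOf k ≠ 2) :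
    ∃ e g : V, Q e = 0 ∧ Q g = 0 ∧ polar Q e g = 1 ∧ v ∈ Submodule.span F {e, g} ∧ ∀ w : V, k w = w ↔ w ∈ Submodule.span F {e, g} := by
  have h1 := h.fix_le_two hk.1 ho hop
  have h2 := h.fix_even hk.1
  have h3 : 0 < finrank F (fixS k) := by
    have : Nontrivial (fixS k) := by
      refine ⟨⟨⟨v, mem_fixS.2 hk.2⟩, 0, fun h0 => hv ?_⟩⟩
      have h4 : v = 0 := congrArg Subtype.val h0
      rw [h4, QuadraticMap.map_zero]
    exact Module.finrank_pos
  have h4 : finrank F (fixS k) = 2 := by
    obtain ⟨j, hj⟩ := h2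
    omega
  obtain ⟨e, g, he, hg, heg, hs⟩ := h.hyp hk.1 ho hop h4
  exact ⟨e, g, he, hg, heg, (hs v).1 hk.2, hs⟩

omit [Finite F] [FiniteDimensional F V] in
/-- the sum over the powers is fixed -/
theorem sum_fixed {x : V ≃ₗ[F] V} {s : ℕ} (hx : x ^ s = 1) (w : V) :
    x (∑ j ∈ Finset.range s, (x ^ j) w) = ∑ j ∈ Finset.range s, (x ^ j) w := by
  rw [map_sum]
  have h3 : ∀ i, x ((x ^ i) w) = (x ^ (i + 1)) w := fun i => by
    rw [pow_succ']
    rfl
  simp only [h3]
  have h4 := Finset.sum_range_succ (fun i => (x ^ i) w) s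
  have h5 := Finset.sum_range_succ' (fun i => (x ^ i) w) s
  rw [hx] at h4
  rw [pow_zero] at h5
  exact add_right_cancel (h5.symm.trans h4)

/-- commuting elements of the same odd prime order: the fixed space of the first is fixed pointwise by the second -/
theorem D2.same_fix_le (h : D2 Q p f m K) {v : V} (hv : Q v ≠ 0) {a b : V ≃ₗ[F] V} (ha : a ∈ stb K v) (hb : b ∈ stb K v)
    (hab : Commute a b) {s : ℕ} (hs : s.Prime) (hsp : s ≠ p) (hs2 : s ≠ 2) (has : orderOf a = s) (hbs : orderOf b = s)
    {w : V} (hw : a w = w) : b w = w := by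
  obtain ⟨e, g, he, hg, heg, hvs, hP⟩ := h.fixplane' hv ha (by rw [has]; exact hs) (by rw [has]; exact hsp)
    (by rw [has]; exact hs2)
  have hge : polar Q g e = 1 := by rw [polar_comm]; exact heg
  have hba : ∀ u, a u = u → a (b u) = b u := fun u hu => by
    have h1 : a (b u) = b (a u) := LinearEquiv.congr_fun hab.eq u
    rw [h1, hu]
  have hpol : ∀ u w, polar Q (b u) (b w) = polar Q u w := fun u w => by
    unfold polar
    rw [← map_add, h.iso b hb.1, h.iso b hb.1, h.iso b hb.1]
  have hbe : b e ∈ Submodule.span F {e, g} :=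
    (hP _).1 (hba e ((hP e).2 (Submodule.subset_span (Or.inl rfl))))
  have hbg : b g ∈ Submodule.span F {e, g} :=
    (hP _).1 (hba g ((hP g).2 (Submodule.subset_span (Or.inr rfl))))
  obtain ⟨α, β, h1⟩ := Submodule.mem_span_pair.1 hbe
  obtain ⟨γ, δ, h2⟩ := Submodule.mem_span_pair.1 hbg
  obtain ⟨x, y, hxy⟩ := Submodule.mem_span_pair.1 hvs
  have hQ : ∀ c d : F, Q (c • e + d • g) = c * d := fun c d => by
    rw [map_comb, he, hg, heg]
    ring
  have hαβ : α * β = 0 := by
    rw [← hQ, h1, h.iso b hb.1, he]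
  have hγδ : γ * δ = 0 := by
    rw [← hQ, h2, h.iso b hb.1, hg]
  have hpp : ∀ c d c' d' : F, polar Q (c • e + d • g) (c' • e + d' • g) = c * d' + d * c' := fun c d c' d' => by
    rw [polar_add_left, polar_add_right, polar_add_right, polar_smul_left, polar_smul_left, polar_smul_left,
      polar_smul_left, polar_smul_right, polar_smul_right, polar_smul_right, polar_smul_right, polar_self, polar_self,
      he, hg, heg, hge]
    simp only [smul_eq_mul]
    ring
  have h3 : α * δ + β * γ = 1 := by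
    rw [← hpp, h1, h2, hpol, heg]
  have hxy0 : x * y ≠ 0 := by
    rw [← hQ, hxy]
    exact hv
  have hbv : b v = v := hb.2
  have huniq : ∀ c d c' d' : F, c • e + d • g = c' • e + d' • g → c = c' ∧ d = d' := fun c d c' d' heq => by
    have h4 := congrArg (fun z => polar Q z g) heq
    have h5 := congrArg (fun z => polar Q z e) heq
    simp only [polar_add_left, polar_smul_left, polar_self, he, hg, heg, hge, smul_eq_mul, mul_one, smul_zero,
      mul_zero, add_zero, zero_add] at h4 h5
    exact ⟨h4, h5⟩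
  have h4 : b v = (x * α + y * γ) • e + (x * β + y * δ) • g := by
    rw [← hxy, map_add, map_smul, map_smul, ← h1, ← h2]
    module
  rw [hbv, ← hxy] at h4
  obtain ⟨h5, h6⟩ := huniq _ _ _ _ h4
  -- `b` is the identity on the plane
  have key : b e = e ∧ b g = g := by
    rcases mul_eq_zero.1 hαβ with hα | hβ
    · -- swap
      exfalso
      subst hα
      have hβγ : β * γ = 1 := by linear_combination h3
      have hδ : δ = 0 := by
        rcases mul_eq_zero.1 hγδ with h7 | h7
        · rw [h7, mul_zero] at hβγ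
          exact absurd hβγ zero_ne_one
        · exact h7
      subst hδ
      have h7 : b e = β • g := by rw [← h1]; module
      have h8 : b g = γ • e := by rw [← h2]; module
      have h9 : (b ^ 2) e = e := by
        rw [pow_two]
        change b (b e) = e
        rw [h7, map_smul, h8, smul_smul, hβγ, one_smul]
      have hodd : ∃ n, s = 2 * n + 1 := by
        rcases hs.eq_two_or_odd' with h10 | h10
        · exact absurd h10 hs2
        · exact h10
      obtain ⟨n, hn⟩ := hodd
      have h10 : (b ^ s) e = b e := by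
        rw [hn, pow_succ, pow_mul]
        have h11 : ∀ n : ℕ, ∀ u, b (b u) = u → ((b ^ 2) ^ n) u = u := by
          intro n u hu
          induction n with
          | zero => rfl
          | succ n ih =>
            rw [pow_succ]
            change ((b ^ 2) ^ n) ((b ^ 2) u) = u
            have : (b ^ 2) u = u := by rw [pow_two]; exact hu
            rw [this, ih]
        change ((b ^ 2) ^ n) (b e) = b e
        refine h11 n _ ?_
        have : b (b e) = e := by
          have := h9
          rw [pow_two] at this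
          exact this
        rw [this]
      rw [← hbs, pow_orderOf_eq_one] at h10
      have h11 : e = β • g := by
        rw [← h7]
        exact h10
      have h12 := congrArg (fun z => polar Q e z) h11
      simp only [polar_self, he, polar_smul_right, heg, smul_eq_mul, mul_one, smul_zero, mul_zero] at h12
      rw [← h12, zero_mul] at hβγ
      exact zero_ne_one hβγ
    · subst hβ
      have hαδ : α * δ = 1 := by linear_combination h3
      have hγ : γ = 0 := by
        rcases mul_eq_zero.1 hγδ with h7 | h7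
        · exact h7
        · rw [h7, mul_zero] at hαδ
          exact absurd hαδ zero_ne_one
      subst hγ
      have hx : x ≠ 0 := left_ne_zero_of_mul hxy0
      have hα : α = 1 := by
        apply mul_left_cancel₀ hx
        linear_combination -h5
      subst hα
      have hδ : δ = 1 := by linear_combination hαδ
      subst hδ
      constructor
      · rw [← h1]; module
      · rw [← h2]; module
  obtain ⟨c, d, rfl⟩ := Submodule.mem_span_pair.1 ((hP w).1 hw)
  rw [map_add, map_smul, map_smul, key.1, key.2]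

/-- V5: commuting elements of the same odd prime order `≠ p` of a vector stabiliser generate the same subgroup -/
theorem D2.same (h : D2 Q p f m K) {v : V} (hv : Q v ≠ 0) {a b : V ≃ₗ[F] V} (ha : a ∈ stb K v) (hb : b ∈ stb K v)
    (hab : Commute a b) {s : ℕ} (hs : s.Prime) (hsp : s ≠ p) (hs2 : s ≠ 2) (has : orderOf a = s) (hbs : orderOf b = s) :
    b ∈ Subgroup.zpowers a := by
  by_contra hba
  have := Fact.mk hs
  have has' : a ^ s = 1 := by rw [← has]; exact pow_orderOf_eq_one a
  have hbs' : b ^ s = 1 := by rw [← hbs]; exact pow_orderOf_eq_one b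
  -- sums over the powers vanish on `[V, a]`
  have hZ : ∀ x ∈ stb K v, Commute a x → orderOf x = s → ∀ u : V, ∑ j ∈ Finset.range s, (x ^ j) (a u - u) = 0 := by
    intro x hx hax hxs u
    have hxs' : x ^ s = 1 := by rw [← hxs]; exact pow_orderOf_eq_one x
    have h1 : ∀ j : ℕ, (x ^ j) (a u - u) = a ((x ^ j) u) - (x ^ j) u := fun j => by
      rw [map_sub]
      congr 1
      exact (LinearEquiv.congr_fun (hax.pow_right j).eq u).symm
    simp only [h1]
    rw [Finset.sum_sub_distrib, ← map_sum]
    have h2 := h.same_fix_le hv hx ha hax.symm hs hsp hs2 hxs has (sum_fixed hxs' u)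
    rw [h2, sub_self]
  have h1 : ∀ i : ℕ, orderOf (a ^ i * b) = s := by
    intro i
    apply orderOf_eq_prime
    · rw [(hab.pow_left i).mul_pow, ← pow_mul, mul_comm i s, pow_mul, has', one_pow, one_mul, hbs']
    · intro h0
      apply hba
      have h2 : b = (a ^ i)⁻¹ := (inv_eq_of_mul_eq_one_right h0).symm
      rw [h2]
      exact inv_mem (pow_mem (Subgroup.mem_zpowers a) i)
  have h2 : ∀ i : ℕ, a ^ i * b ∈ stb K v := fun i => mul_mem (pow_mem ha i) hb
  have h3 : ∀ i : ℕ, Commute a (a ^ i * b) := fun i => ((Commute.refl a).pow_right i).mul_right hab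
  have hall : ∀ u : V, a u - u = 0 := by
    intro u
    have h4 : ∑ i ∈ Finset.range s, ∑ j ∈ Finset.range s, ((a ^ i * b) ^ j) (a u - u) = 0 :=
      Finset.sum_eq_zero fun i _ => hZ _ (h2 i) (h3 i) (h1 i) u
    rw [Finset.sum_comm] at h4
    obtain ⟨t, rfl⟩ : ∃ t, s = t + 1 := ⟨s - 1, (Nat.succ_pred_eq_of_pos hs.pos).symm⟩
    rw [Finset.sum_range_succ'] at h4
    have h5 : ∑ j ∈ Finset.range t, ∑ i ∈ Finset.range (t + 1), ((a ^ i * b) ^ (j + 1)) (a u - u) = 0 := by
      refine Finset.sum_eq_zero fun j hj => ?_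
      have hj' : j + 1 < t + 1 := by
        have := Finset.mem_range.1 hj
        omega
      have h6 : ∀ i ∈ Finset.range (t + 1), ((a ^ i * b) ^ (j + 1)) (a u - u) =
          ((a ^ (j + 1)) ^ i) (a ((b ^ (j + 1)) u) - (b ^ (j + 1)) u) := by
        intro i _
        rw [(hab.pow_left i).mul_pow, ← pow_mul, mul_comm i, pow_mul]
        change ((a ^ (j + 1)) ^ i) ((b ^ (j + 1)) (a u - u)) = _
        congr 1
        rw [map_sub]
        congr 1
        exact (LinearEquiv.congr_fun (hab.pow_right (j + 1)).eq u).symm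
      rw [Finset.sum_congr rfl h6]
      refine hZ _ (pow_mem ha _) ((Commute.refl a).pow_right _) ?_ _
      apply orderOf_eq_prime
      · rw [← pow_mul, mul_comm, pow_mul, has', one_pow]
      · intro h0
        have h7 := orderOf_dvd_of_pow_eq_one h0
        rw [has] at h7
        exact absurd (Nat.le_of_dvd (by omega) h7) (by omega)
    rw [h5, zero_add] at h4
    simp only [pow_zero] at h4
    rw [Finset.sum_const, Finset.card_range] at h4
    have h6 : (t + 1) • (a u - u) = 0 := h4
    rw [← Nat.cast_smul_eq_nsmul F, smul_eq_zero] at h6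
    exact h6.resolve_left (h.cast_ne hs hsp)
  have ha1 : a = 1 := by
    ext u
    exact sub_eq_zero.1 (hall u)
  rw [ha1, orderOf_one] at has
  exact hs.one_lt.ne has

/-- V6: `q` odd: the stabiliser of a nonsingular vector has odd order -/
theorem D2.odd_stb (h : D2 Q p f m K) (hp2 : p ≠ 2) {v : V} (hv : Q v ≠ 0) : Odd (Nat.card (stb K v)) := by
  rw [← Nat.not_even_iff_odd]
  intro hev
  have : Finite V := Module.finite_of_finite F
  have : Finite (V ≃ₗ[F] V) := Finite.of_injective (fun e : V ≃ₗ[F] V => (e : V → V)) DFunLike.coe_injective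
  have hm := h.hm
  have h2F : (2 : F) ≠ 0 := by
    have := h.cast_ne Nat.prime_two (fun h => hp2 h.symm)
    exact_mod_cast this
  obtain ⟨⟨t, ht⟩, hto⟩ := exists_prime_orderOf_dvd_card' (G := stb K v) 2 hev.two_dvd
  rw [Subgroup.orderOf_mk] at hto
  have htt : t * t = 1 := by
    have := pow_orderOf_eq_one t
    rwa [hto, pow_two] at this
  have ht1 : t ≠ 1 := fun h1 => by
    rw [h1, orderOf_one] at hto
    omega
  have hv0 : v ≠ 0 := fun h0 => hv (by rw [h0, QuadraticMap.map_zero])
  have htv : t v ≠ -v := by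
    rw [ht.2]
    intro h1
    have h2 : (2 : F) • v = 0 := by
      rw [two_smul]
      nth_rewrite 1 [h1]
      exact neg_add_cancel v
    rcases smul_eq_zero.1 h2 with h3 | h3
    · exact h2F h3
    · exact hv0 h3
  obtain ⟨s, hsK, hss, hs1, hst, v', hsv'⟩ := h.inv hp2 t ht.1 htt ht1 ⟨v, htv⟩
  have hso : orderOf s = 2 := orderOf_eq_prime (by rw [pow_two]; exact hss) hs1
  -- the fixed spaces have dimension 2
  have hdim : ∀ x ∈ K, orderOf x = 2 → (∃ u : V, u ≠ 0 ∧ x u = u) →
      finrank F (LinearMap.range ((x : V →ₗ[F] V) - LinearMap.id)) = 2 * m - 2 := by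
    rintro x hx hxo ⟨u, hu0, hu⟩
    have h1 := h.fix_le_two hx (by rw [hxo]; exact Nat.prime_two) (by rw [hxo]; exact fun h => hp2 h.symm)
    have h2 := h.fix_even hx
    have h3 : 0 < finrank F (fixS x) := by
      have : Nontrivial (fixS x) := ⟨⟨⟨u, mem_fixS.2 hu⟩, 0, fun h0 => hu0 (congrArg Subtype.val h0)⟩⟩
      exact Module.finrank_pos
    have h4 := h.fix_add x
    obtain ⟨j, hj⟩ := h2
    omega
  have hdt := hdim t ht.1 hto ⟨v, hv0, ht.2⟩
  have hds := hdim s hsK hso ⟨s v' + v', fun h0 => hsv' (eq_neg_of_add_eq_zero_left h0), by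
    have h1 : s (s v') = v' := LinearEquiv.congr_fun hss v'
    rw [map_add, h1, add_comm]⟩
  -- on the ranges `s = t = -1`
  have hneg : ∀ x : V ≃ₗ[F] V, x * x = 1 → ∀ u ∈ LinearMap.range ((x : V →ₗ[F] V) - LinearMap.id), x u = -u := by
    rintro x hx _ ⟨u, rfl⟩
    have h1 : x (x u) = u := LinearEquiv.congr_fun hx u
    change x (x u - u) = -(x u - u)
    rw [map_sub, h1]
    abel
  set N := LinearMap.range ((t : V →ₗ[F] V) - LinearMap.id) with hN
  set M := LinearMap.range ((s : V →ₗ[F] V) - LinearMap.id) with hM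
  have hpol : ∀ u w, polar Q (t u) (t w) = polar Q u w := fun u w => by
    unfold polar
    rw [← map_add, h.iso t ht.1, h.iso t ht.1, h.iso t ht.1]
  have hNd : Nd Q N := by
    intro u hu huN
    apply h.nd
    intro w
    have h1 : polar Q u (t w - w) = 0 := huN _ ⟨w, rfl⟩
    have h2 := hpol u (t w)
    have h3 : t (t w) = w := LinearEquiv.congr_fun htt w
    rw [hneg t htt u hu, h3, polar_neg_left] at h2
    rw [polar_sub_right, ← h2] at h1
    have h4 : (2 : F) * polar Q u w = 0 := by linear_combination -h1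
    exact (mul_eq_zero.1 h4).resolve_left h2F
  have hsum := Submodule.finrank_sup_add_finrank_inf_eq M N
  have hle : finrank F (M ⊔ N : Submodule F V) ≤ 2 * m := by
    rw [← h.dim]
    exact Submodule.finrank_le _
  obtain ⟨u, hu, w, hw, ha⟩ := exists_aniso (Q := Q) (U := M ⊓ N) (N := N) inf_le_right hNd (by omega)
  refine h.fix (s * t) (K.mul_mem hsK ht.1) (fun h1 => hst ?_) u w ha ?_ ?_
  · have h2 : s = t⁻¹ := eq_inv_of_mul_eq_one_left h1
    rw [h2]
    exact inv_eq_of_mul_eq_one_left htt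
  · change s (t u) = u
    rw [hneg t htt u hu.2, map_neg, hneg s hss u hu.1, neg_neg]
  · change s (t w) = w
    rw [hneg t htt w hw.2, map_neg, hneg s hss w hw.1, neg_neg]

/-- V7: a `p`-element of `K` fixing pointwise the perp of a totally singular `W` of odd dimension `m - 1` is trivial -/
theorem D2.alt_odd (h : D2 Q p f m K) (hm' : Odd (m - 1)) {W : Submodule F V} (_hW : ∀ w ∈ W, Q w = 0) (hWd : finrank F W = m - 1)
    {a : V ≃ₗ[F] V} (ha : a ∈ K) (hfix : ∀ z : V, (∀ w ∈ W, polar Q z w = 0) → a z = z) : a = 1 := by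
  by_contra ha1
  have hm := h.hm
  let T : V →ₗ[F] Dual F W := (Submodule.dualRestrict W).comp Q.polarBilin
  have h1 : LinearMap.ker T ≤ fixS a := by
    intro z hz
    rw [mem_fixS]
    refine hfix z fun w hw => ?_
    exact LinearMap.congr_fun (LinearMap.mem_ker.1 hz) ⟨w, hw⟩
  have h2 := Submodule.finrank_mono h1
  have h3 := LinearMap.finrank_range_add_finrank_ker T
  have h4 := Submodule.finrank_le (LinearMap.range T)
  rw [Subspace.dual_finrank_eq, hWd] at h4
  rw [h.dim] at h3
  have h5 := h.fix_le ha ha1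
  have h6 := h.fix_even ha
  obtain ⟨j, hj⟩ := h6
  obtain ⟨i, hi⟩ := hm'
  omega

end Cfsg.Agent.H386.Rg
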